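import Groth.Agent.CAlg5.ShMinimal

/-! Minimal primes of the normalization tensored with the henselization. -/

set_option autoImplicit false
set_option linter.style.haveILetI false

universe u

open IsLocalRing
open scoped TensorProduct

namespace Groth.Agent.CAlg52

open Groth.Agent.CAlg5 hiding exists_tensor_equiv primeOrder_bc primeOrder_tensor exists_bc_prime minimalPrimes_bijOn

section

variable (A : Type u) [CommRing A] [IsLocalRing A]
  (Ah : Type u) [CommRing Ah] [IsLocalRing Ah] [Algebra A Ah]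
  [IsLocalHom (algebraMap A Ah)] [Hensel.IsHenselization A Ah]

theorem exists_tensor_equiv [Finite (minimalPrimes A)] :
    ∃ Φ : (CAlg2.normRed A ⊗[A] Ah) ≃+* (∀ p : minimalPrimes A, Brnch26.BC p (ResidueField A)),
      ∀ (x : Ah) (p : minimalPrimes A), Φ ((1 : CAlg2.normRed A) ⊗ₜ x) p =
        Brnch26.inl p (ResidueField A) ((Henz21.henselizationEquiv (R := A) (S := Ah)).symm x) := by
  classical
  haveI := Fintype.ofFinite (minimalPrimes A)
  obtain ⟨ψ, hψ⟩ := Brnch26.exists_normRed_equiv_pi (A := A)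
  let Φ₁ : CAlg2.normRed A ≃ₐ[A] ∀ p : minimalPrimes A, Brnch26.Comp A p :=
    AlgEquiv.ofRingEquiv (f := ψ) fun a => funext fun p => hψ a p
  let e := Henz21.henselizationEquiv (R := A) (S := Ah)
  let Φ : (CAlg2.normRed A ⊗[A] Ah) ≃ₐ[A] (∀ p : minimalPrimes A, Brnch26.BC p (ResidueField A)) :=
    ((Algebra.TensorProduct.congr Φ₁ e.symm).trans (Algebra.TensorProduct.comm A _ _)).trans
      (Algebra.TensorProduct.piRight A A (Henz21.H A (ResidueField A)) (fun p : minimalPrimes A => Brnch26.Comp A p))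
  refine ⟨Φ.toRingEquiv, fun x p => ?_⟩
  show Φ ((1 : CAlg2.normRed A) ⊗ₜ x) p = e.symm x ⊗ₜ (1 : Brnch26.Comp A p)
  simp [Φ]

variable {A} in
theorem primeOrder_bc (p : minimalPrimes A) : PrimeOrder (Brnch26.BC p (ResidueField A)) where
  uniqueMax P hP := Brnch26.exists_isMaximal_unique_ge p P
  uniqueMin Q hQ := Brnch26.exists_isPrime_le_forall_le (A := A) (K := ResidueField A) (D := Brnch26.Comp A p) Q

theorem primeOrder_tensor (hfin : (minimalPrimes A).Finite) :
    PrimeOrder (CAlg2.normRed A ⊗[A] Ah) := by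
  haveI := hfin.to_subtype
  obtain ⟨Φ, -⟩ := exists_tensor_equiv A Ah
  exact (primeOrder_pi (R := fun p : minimalPrimes A => Brnch26.BC p (ResidueField A))
    fun p => primeOrder_bc (A := A) p).of_ringEquiv Φ.symm

variable {A} in
theorem exists_bc_prime (P : Ideal (Henz21.H A (ResidueField A))) [P.IsPrime] (p : minimalPrimes A)
    (hPA : P.comap (algebraMap A (Henz21.H A (ResidueField A))) = p.1) :
    ∃ P' : Ideal (Brnch26.BC p (ResidueField A)), P'.IsPrime ∧ P'.comap (Brnch26.inl p (ResidueField A)) = P := by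
  let H := Henz21.H A (ResidueField A)
  let L := FractionRing (H ⧸ P)
  have hAL : ∀ a : A, algebraMap A L a = 0 ↔ a ∈ p.1 := fun a => by
    rw [← hPA, Ideal.mem_comap, IsScalarTower.algebraMap_apply A (H ⧸ P) L,
      IsFractionRing.to_map_eq_zero_iff]
    exact Ideal.Quotient.eq_zero_iff_mem
  let μ : A ⧸ p.1 →+* L := Ideal.Quotient.lift p.1 (algebraMap A L) fun a ha => (hAL a).2 ha
  have hu : ∀ s : nonZeroDivisors (A ⧸ p.1), IsUnit (μ s) := by
    rintro ⟨s, hs⟩
    obtain ⟨s, rfl⟩ := Ideal.Quotient.mk_surjective s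
    exact IsUnit.mk0 _ fun h0 => nonZeroDivisors.ne_zero hs
      (Ideal.Quotient.eq_zero_iff_mem.2 ((hAL s).1 h0))
  let θ : p.1.ResidueField →+* L := IsLocalization.lift hu
  have hθ : ∀ a, θ (algebraMap A p.1.ResidueField a) = algebraMap A L a := fun a => by
    rw [IsScalarTower.algebraMap_apply A (A ⧸ p.1) p.1.ResidueField, IsLocalization.lift_eq]
    rfl
  let g : Brnch26.Comp A p →ₐ[A] L :=
    { θ.comp (algebraMap (Brnch26.Comp A p) p.1.ResidueField) with commutes' := hθ }
  let f : Brnch26.BC p (ResidueField A) →ₐ[A] L :=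
    Algebra.TensorProduct.productMap (IsScalarTower.toAlgHom A H L) g
  refine ⟨RingHom.ker f, RingHom.ker_isPrime _, ?_⟩
  ext h
  show f (h ⊗ₜ 1) = 0 ↔ _
  rw [Algebra.TensorProduct.productMap_apply_tmul, map_one, mul_one]
  show algebraMap H L h = 0 ↔ _
  rw [IsScalarTower.algebraMap_apply H (H ⧸ P) L,
    IsFractionRing.to_map_eq_zero_iff, Ideal.Quotient.algebraMap_eq, Ideal.Quotient.eq_zero_iff_mem]

set_option maxHeartbeats 800000 in
theorem minimalPrimes_bijOn (hfin : (minimalPrimes A).Finite) :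
    Set.BijOn (fun P : Ideal ((CAlg2.normRed A) ⊗[A] Ah) =>
        P.comap (Algebra.TensorProduct.includeRight.toRingHom :
          Ah →+* (CAlg2.normRed A) ⊗[A] Ah))
      (minimalPrimes ((CAlg2.normRed A) ⊗[A] Ah))
      (minimalPrimes Ah) := by
  haveI := hfin.to_subtype
  obtain ⟨Φ, hΦ⟩ := exists_tensor_equiv A Ah
  let e := Henz21.henselizationEquiv (R := A) (S := Ah)
  -- normal form of the map
  have hval : ∀ (p : minimalPrimes A) (q : Ideal (Brnch26.BC p (ResidueField A))),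
      ((q.comap (Pi.evalRingHom (fun p : minimalPrimes A => Brnch26.BC p (ResidueField A)) p)).comap Φ.toRingHom).comap
        (Algebra.TensorProduct.includeRight.toRingHom : Ah →+* (CAlg2.normRed A) ⊗[A] Ah) =
      (q.comap (Brnch26.inl p (ResidueField A))).comap e.symm.toRingEquiv.toRingHom := by
    intro p q
    ext x
    show Φ ((1 : CAlg2.normRed A) ⊗ₜ x) p ∈ q ↔ _
    rw [hΦ]
    rfl
  have hform : ∀ P ∈ minimalPrimes ((CAlg2.normRed A) ⊗[A] Ah),
      ∃ (p : minimalPrimes A) (q : Ideal (Brnch26.BC p (ResidueField A))), q ∈ minimalPrimes _ ∧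
        P = (q.comap (Pi.evalRingHom (fun p : minimalPrimes A => Brnch26.BC p (ResidueField A)) p)).comap Φ.toRingHom := by
    intro P hP
    have hP' := minimalPrimes_comap_equiv (S := CAlg2.normRed A ⊗[A] Ah) Φ.symm hP
    haveI := hP'.1.1
    obtain ⟨p, q, hq, heq⟩ := exists_eq_comap_eval (P.comap Φ.symm.toRingHom)
    refine ⟨p, q, minimalPrimes_of_comap_eval (R := fun p : minimalPrimes A => Brnch26.BC p (ResidueField A))
      (i := p) (heq ▸ hP'), ?_⟩
    rw [← heq]
    ext x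
    show _ ↔ Φ.symm (Φ x) ∈ P
    rw [Φ.symm_apply_apply]
  have hminH : ∀ (p : minimalPrimes A) (q : Ideal (Brnch26.BC p (ResidueField A))), q ∈ minimalPrimes _ →
      (q.comap (Brnch26.inl p (ResidueField A))).comap (algebraMap A (Henz21.H A (ResidueField A))) = p.1 ∧
        q.comap (Brnch26.inl p (ResidueField A)) ∈ minimalPrimes (Henz21.H A (ResidueField A)) := by
    intro p q hq
    haveI := hq.1.1
    have h1 := Brnch26.comap_algebraMap_eq p (Brnch26.comap_inr_eq_bot_of_min p hq)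
    refine ⟨h1, ⟨Ideal.comap_isPrime _ _, bot_le⟩, fun P' hP' hle => ?_⟩
    haveI := hP'.1
    refine (Brnch26.eq_of_le_of_comap_eq hle (le_antisymm (Ideal.comap_mono hle) ?_)).ge
    rw [h1]
    exact p.2.2 ⟨Ideal.comap_isPrime _ _, bot_le⟩ (h1 ▸ Ideal.comap_mono hle)
  refine ⟨fun P hP => ?_, fun P₁ h₁ P₂ h₂ h => ?_, fun P hP => ?_⟩
  · obtain ⟨p, q, hq, rfl⟩ := hform P hP
    show Ideal.comap _ _ ∈ minimalPrimes Ah
    rw [hval p q]
    exact minimalPrimes_comap_equiv e.symm.toRingEquiv (hminH p q hq).2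
  · obtain ⟨p₁, q₁, hq₁, rfl⟩ := hform P₁ h₁
    obtain ⟨p₂, q₂, hq₂, rfl⟩ := hform P₂ h₂
    simp only at h
    rw [hval p₁ q₁, hval p₂ q₂] at h
    have h' := Ideal.comap_injective_of_surjective _ e.symm.toRingEquiv.surjective h
    obtain rfl : p₁ = p₂ := Subtype.ext (by rw [← (hminH p₁ q₁ hq₁).1, ← (hminH p₂ q₂ hq₂).1, h'])
    haveI := hq₁.1.1
    haveI := hq₂.1.1
    rw [le_antisymm (Brnch26.le_of_comap_le p₁ (Brnch26.comap_inr_eq_bot_of_min p₁ hq₂) h'.le)
      (Brnch26.le_of_comap_le p₁ (Brnch26.comap_inr_eq_bot_of_min p₁ hq₁) h'.ge)]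
  · have hPH := minimalPrimes_comap_equiv e.toRingEquiv hP
    haveI := hPH.1.1
    have hpA := Brnch26.minimalPrimes_comap_mem (A := A) (K := ResidueField A) ⟨_, hPH⟩
    let p : minimalPrimes A := ⟨_, hpA⟩
    obtain ⟨P', hP', hP'H⟩ := exists_bc_prime (P.comap e.toRingEquiv.toRingHom) p rfl
    obtain ⟨q, hq, hqP'⟩ := Ideal.exists_minimalPrimes_le (bot_le (a := P'))
    refine ⟨(q.comap (Pi.evalRingHom (fun p : minimalPrimes A => Brnch26.BC p (ResidueField A)) p)).comap Φ.toRingHom,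
      minimalPrimes_comap_equiv (R := CAlg2.normRed A ⊗[A] Ah) Φ (comap_eval_mem_minimalPrimes
        (R := fun p : minimalPrimes A => Brnch26.BC p (ResidueField A)) (i := p) hq), ?_⟩
    show Ideal.comap _ _ = P
    rw [hval p q]
    have h1 : q.comap (Brnch26.inl p (ResidueField A)) = P.comap e.toRingEquiv.toRingHom :=
      le_antisymm ((Ideal.comap_mono hqP').trans hP'H.le)
        (hPH.2 (hminH p q hq).2.1 ((Ideal.comap_mono hqP').trans hP'H.le))
    rw [h1]
    ext x
    show e (e.symm x) ∈ P ↔ _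
    rw [e.apply_symm_apply]

end

end Groth.Agent.CAlg52
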